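import Groth.Agent.Lib.Graded.Finiteness
import Groth.Prelude.Def_Rees
import Groth.Prelude.Def_ReesMod
import Groth.Prelude.Def_GrSyz

/-!
# The Rees module: coefficient zero part and the downward shift
-/

universe u

open Polynomial DirectSum

namespace Groth.Agent.H68.SerreRel.ReesMod

open Groth.Agent.Lib.Graded Groth.Agent.Lib.Graded.Basic Groth.Agent.Lib.Graded.StarInj

variable {A : Type u} [CommRing A] (I : Ideal A) (M : Type u) [AddCommGroup M] [Module A M]

local notation "Rs" => reesAlgebra I
local notation "Ms" => Ideal.Filtration.submodule (Rees.powFilt I M)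
local notation "𝒢" => Rees.degZ (reesAlgebra I)
local notation "ℳ" => Rees.mdegZ (Rees.powFilt I M)

variable {I M}

theorem coeff_smul (a : Rs) (x : Ms) (m : ℕ) :
    ((a • x : Ms) : PolynomialModule A M).coeff m =
      ∑ p ∈ Finset.antidiagonal m, (a : A[X]).coeff p.1 • (x : PolynomialModule A M).coeff p.2 := by
  rw [Submodule.coe_smul, Subalgebra.smul_def, PolynomialModule.smul_apply]

theorem coeff_smul_zero (a : Rs) (x : Ms) :
    ((a • x : Ms) : PolynomialModule A M).coeff 0 = (a : A[X]).coeff 0 • (x : PolynomialModule A M).coeff 0 := by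
  rw [coeff_smul]
  simp

theorem coeff_proj (g : ℤ) (x : Ms) (m : ℕ) :
    ((proj ℳ g x : Ms) : PolynomialModule A M).coeff m =
      if (m : ℤ) = g then (x : PolynomialModule A M).coeff m else 0 := by
  induction x using induction_hom ℳ with
  | zero => simp
  | hom h y hy =>
    by_cases hgh : h = g
    · subst hgh
      rw [proj_of_mem ℳ hy]
      split_ifs with hm
      · rfl
      · exact (Rees.mem_mdegZ_iff _ h y).1 hy m hm
    · rw [proj_of_mem_ne ℳ hy hgh]
      split_ifs with hm
      · rw [(Rees.mem_mdegZ_iff _ h y).1 hy m (fun h' => hgh (h'.symm.trans hm))]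
        simp
      · simp
  | add y z hy hz =>
    rw [map_add, Submodule.coe_add, PolynomialModule.coeff_add, Finsupp.add_apply, hy, hz,
      Submodule.coe_add, PolynomialModule.coeff_add, Finsupp.add_apply]
    split_ifs <;> simp

variable (I M)

/-- The elements with vanishing constant coefficient. -/
def pos : Submodule Rs Ms where
  carrier := {x | (x : PolynomialModule A M).coeff 0 = 0}
  zero_mem' := by simp
  add_mem' {x y} hx hy := by
    change ((x + y : Ms) : PolynomialModule A M).coeff 0 = 0
    rw [Submodule.coe_add, PolynomialModule.coeff_add, Finsupp.add_apply]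
    rw [Set.mem_setOf_eq] at hx hy
    rw [hx, hy, add_zero]
  smul_mem' a x hx := by
    change ((a • x : Ms) : PolynomialModule A M).coeff 0 = 0
    rw [coeff_smul_zero, show (x : PolynomialModule A M).coeff 0 = 0 from hx, smul_zero]

theorem mem_pos {x : Ms} : x ∈ pos I M ↔ (x : PolynomialModule A M).coeff 0 = 0 := Iff.rfl

theorem isHomogeneous_pos : (pos I M).IsHomogeneous ℳ := by
  intro g x hx
  change proj ℳ g x ∈ pos I M
  rw [mem_pos, coeff_proj]
  split_ifs
  · exact hx
  · rfl

theorem mem_pos_of_mem {n : ℤ} (hn : n ≠ 0) {x : Ms} (hx : x ∈ ℳ n) : x ∈ pos I M :=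
  (Rees.mem_mdegZ_iff _ n x).1 hx 0 (by simpa using fun h : (0 : ℤ) = n => hn h.symm)

theorem coeff_zero_of_mem_irrel {r : Rs} (hr : r ∈ (GrSyz.irrel 𝒢).toIdeal) : (r : A[X]).coeff 0 = 0 := by
  change r ∈ Ideal.span _ at hr
  induction hr using Submodule.span_induction with
  | mem c hc =>
    obtain ⟨n, hn, hc⟩ := hc
    exact (Rees.mem_degZ_iff _ n c).1 hc 0 (by omega)
  | zero => simp
  | add a b _ _ ha hb => simp [ha, hb]
  | smul t a _ ha => simp [Polynomial.mul_coeff_zero, ha]

theorem irrel_smul_mem_pos {r : Rs} (hr : r ∈ (GrSyz.irrel 𝒢).toIdeal) (x : Ms) : r • x ∈ pos I M := by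
  rw [mem_pos, coeff_smul_zero, coeff_zero_of_mem_irrel I hr, zero_smul]

theorem mem_N_succ_of (m : ℕ) (z : M) (hz : z ∈ (Rees.powFilt I M).N (m + 1)) : z ∈ (Rees.powFilt I M).N m :=
  (Rees.powFilt I M).antitone (Nat.le_succ m) hz

/-- Shift the coefficients down by one, on elements with vanishing constant coefficient. -/
noncomputable def down : pos I M →ₗ[Rs] Ms where
  toFun x := ⟨PolynomialModule.ofCoeff A
      (Finsupp.comapDomain Nat.succ ((x : Ms) : PolynomialModule A M).coeff Nat.succ_injective.injOn),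
    fun m => mem_N_succ_of I M m _ ((x : Ms).2 (m + 1))⟩
  map_add' x y := Subtype.ext <| PolynomialModule.ext <| Finsupp.ext fun m => by simp
  map_smul' a x := Subtype.ext <| PolynomialModule.ext <| Finsupp.ext fun m => by
    change (((a • (x : Ms) : Ms)) : PolynomialModule A M).coeff (m + 1) = _
    rw [coeff_smul, RingHom.id_apply, coeff_smul, Finset.Nat.antidiagonal_succ', Finset.sum_cons,
      show ((x : Ms) : PolynomialModule A M).coeff 0 = 0 from x.2, smul_zero, zero_add, Finset.sum_map]
    rfl

theorem coeff_down (x : pos I M) (m : ℕ) :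
    ((down I M x : Ms) : PolynomialModule A M).coeff m = ((x : Ms) : PolynomialModule A M).coeff (m + 1) :=
  rfl

theorem down_injective : Function.Injective (down I M) := by
  intro x y h
  refine Subtype.ext (Subtype.ext (PolynomialModule.ext (Finsupp.ext fun m => ?_)))
  cases m with
  | zero =>
    rw [show ((x : Ms) : PolynomialModule A M).coeff 0 = 0 from x.2,
      show ((y : Ms) : PolynomialModule A M).coeff 0 = 0 from y.2]
  | succ m => rw [← coeff_down I M x, ← coeff_down I M y, h]

theorem down_mem {n : ℤ} {x : pos I M} (hx : (x : Ms) ∈ ℳ (n + 1)) : down I M x ∈ ℳ n := by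
  refine (Rees.mem_mdegZ_iff _ n _).2 fun m hm => ?_
  rw [coeff_down]
  exact (Rees.mem_mdegZ_iff _ _ _).1 hx (m + 1) (by push_cast; omega)

/-- The homogeneous element of degree `n` with coefficient `z`. -/
noncomputable def elt (n : ℕ) (z : (Rees.powFilt I M).N n) : Ms :=
  (Rees.mdegEquiv (Rees.powFilt I M) n z : Ms)

theorem coeff_elt (n : ℕ) (z : (Rees.powFilt I M).N n) (m : ℕ) :
    ((elt I M n z : Ms) : PolynomialModule A M).coeff m = if n = m then (z : M) else 0 := by
  change (PolynomialModule.single A n (z : M)).coeff m = _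
  rw [PolynomialModule.coeff_single, Finsupp.single_apply]

theorem elt_mem (n : ℕ) (z : (Rees.powFilt I M).N n) : elt I M n z ∈ ℳ (n : ℤ) :=
  (Rees.mem_mdegZ_natCast_iff _ n _).2 (Rees.mdegEquiv (Rees.powFilt I M) n z).2

theorem eq_elt {n : ℕ} {x : Ms} (hx : x ∈ ℳ (n : ℤ)) :
    x = elt I M n ⟨(x : PolynomialModule A M).coeff n, x.2 n⟩ := by
  refine Subtype.ext (PolynomialModule.ext (Finsupp.ext fun m => ?_))
  rw [coeff_elt]
  split_ifs with h
  · rw [h]
  · exact (Rees.mem_mdegZ_iff _ _ x).1 hx m (by omega)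

end Groth.Agent.H68.SerreRel.ReesMod
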