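import Groth.Agent.Lib.Graded.SerreFormula
import Groth.Agent.Lib.Graded.CMVanish

/-!
# Serre's formula relative to an ideal of the degree zero ring

For modules killed by an ideal `J` of the degree zero ring whose finitely generated killed modules
have finite length, without assuming that the degree zero ring is Artinian.
-/

universe u

set_option maxHeartbeats 800000
set_option linter.unusedSectionVars false

open DirectSum

namespace Groth.Agent.H68.SerreRel

open Groth.Agent.Lib.Graded Groth.Agent.Lib.Graded.Basic Groth.Agent.Lib.Graded.StarInj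
open Groth.Agent.Lib.Graded.SerreFormula (D D_zero D_add D_append D_D_comm eq_zero_of_D exists_D_poly
  ker_restrict_eq_range)

section Length

variable (A : Type u) [CommRing A]

/-- The length as a rational number. -/
noncomputable def ell (M : Type u) [AddCommGroup M] [Module A M] : ℚ := ((Module.length A M).toNat : ℚ)

theorem ell_congr {M N : Type u} [AddCommGroup M] [Module A M] [AddCommGroup N] [Module A N] (e : M ≃ₗ[A] N) :
    ell A M = ell A N := by rw [ell, ell, e.length_eq]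

theorem ell_eq_zero (M : Type u) [AddCommGroup M] [Module A M] [Subsingleton M] : ell A M = 0 := by
  simp [ell, Module.length_eq_zero]

theorem ker_add_range {M N : Type u} [AddCommGroup M] [Module A M] [AddCommGroup N] [Module A N]
    [IsArtinian A M] [IsNoetherian A M] (g : M →ₗ[A] N) :
    ell A (LinearMap.ker g) + ell A (LinearMap.range g) = ell A M := by
  haveI : IsArtinian A (LinearMap.range g) := isArtinian_of_surjective M g.rangeRestrict g.surjective_rangeRestrict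
  haveI : IsNoetherian A (LinearMap.range g) := isNoetherian_of_surjective g.rangeRestrict (LinearMap.range_eq_top.2 g.surjective_rangeRestrict)
  have h := Module.length_eq_add_of_exact (LinearMap.ker g).subtype g.rangeRestrict
    (Submodule.subtype_injective _) g.surjective_rangeRestrict
    (LinearMap.exact_iff.2 ((LinearMap.ker_rangeRestrict g).trans (Submodule.range_subtype _).symm))
  rw [ell, ell, ell, h, ENat.toNat_add Module.length_ne_top Module.length_ne_top, Nat.cast_add]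

variable {a b c : ℕ → Type u} [∀ i, AddCommGroup (a i)] [∀ i, Module A (a i)] [∀ i, AddCommGroup (b i)]
  [∀ i, Module A (b i)] [∀ i, AddCommGroup (c i)] [∀ i, Module A (c i)]
  [∀ i, IsArtinian A (a i)] [∀ i, IsArtinian A (b i)] [∀ i, IsArtinian A (c i)]
  [∀ i, IsNoetherian A (a i)] [∀ i, IsNoetherian A (b i)] [∀ i, IsNoetherian A (c i)]

/-- Additivity of Euler characteristics. -/
theorem euler (f : ∀ i, a i →ₗ[A] b i) (g : ∀ i, b i →ₗ[A] c i) (δ : ∀ i, c i →ₗ[A] a (i + 1))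
    (hb : ∀ i, LinearMap.ker (g i) = LinearMap.range (f i))
    (hc : ∀ i, LinearMap.ker (δ i) = LinearMap.range (g i))
    (ha : ∀ i, LinearMap.ker (f (i + 1)) = LinearMap.range (δ i))
    (h0 : Function.Injective (f 0)) (N : ℕ) (hN : Subsingleton (a (N + 1))) :
    ∑ i ∈ Finset.range (N + 1), (-1 : ℚ) ^ i * ell A (b i) =
      (∑ i ∈ Finset.range (N + 1), (-1 : ℚ) ^ i * ell A (a i)) +
        ∑ i ∈ Finset.range (N + 1), (-1 : ℚ) ^ i * ell A (c i) := by
  have hi : ∀ i, ell A (a i) + ell A (c i) - ell A (b i) =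
      ell A (LinearMap.ker (f i)) + ell A (LinearMap.ker (f (i + 1))) := fun i => by
    have h1 := ker_add_range A (f i)
    have h2 := ker_add_range A (g i)
    have h3 := ker_add_range A (δ i)
    rw [hb] at h2
    rw [hc] at h3
    rw [← ha] at h3
    linarith
  have key : ∀ n : ℕ, ∑ i ∈ Finset.range n, (-1 : ℚ) ^ i * (ell A (a i) + ell A (c i) - ell A (b i)) =
      ell A (LinearMap.ker (f 0)) - (-1 : ℚ) ^ n * ell A (LinearMap.ker (f n)) := by
    intro n
    induction n with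
    | zero => simp
    | succ n ih => rw [Finset.sum_range_succ, ih, hi, pow_succ]; ring
  haveI : Subsingleton (LinearMap.ker (f 0)) := by
    rw [LinearMap.ker_eq_bot.2 h0]; infer_instance
  have h := key (N + 1)
  rw [ell_eq_zero A (LinearMap.ker (f 0)), ell_eq_zero A (LinearMap.ker (f (N + 1))), mul_zero, sub_zero] at h
  simp only [mul_sub, mul_add, Finset.sum_sub_distrib, Finset.sum_add_distrib, sub_eq_zero] at h
  exact h.symm

/-- Euler characteristics of pieces of a long exact sequence. -/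
theorem euler_restrict {Ha Hb Hc : ℕ → Type u}
    [∀ i, AddCommGroup (Ha i)] [∀ i, Module A (Ha i)] [∀ i, AddCommGroup (Hb i)] [∀ i, Module A (Hb i)]
    [∀ i, AddCommGroup (Hc i)] [∀ i, Module A (Hc i)]
    (f : ∀ i, Ha i →ₗ[A] Hb i) (g : ∀ i, Hb i →ₗ[A] Hc i) (δ : ∀ i, Hc i →ₗ[A] Ha (i + 1))
    (P : ∀ i, Submodule A (Ha i)) (Q : ∀ i, Submodule A (Hb i)) (S : ∀ i, Submodule A (Hc i))
    (aP : ∀ i, IsArtinian A (P i)) (nP : ∀ i, IsNoetherian A (P i))
    (aQ : ∀ i, IsArtinian A (Q i)) (nQ : ∀ i, IsNoetherian A (Q i))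
    (aS : ∀ i, IsArtinian A (S i)) (nS : ∀ i, IsNoetherian A (S i))
    (hf : ∀ i, ∀ x ∈ P i, f i x ∈ Q i) (hg : ∀ i, ∀ x ∈ Q i, g i x ∈ S i)
    (hδ : ∀ i, ∀ x ∈ S i, δ i x ∈ P (i + 1))
    (hgf : ∀ i x, g i (f i x) = 0) (hdg : ∀ i x, δ i (g i x) = 0) (hfd : ∀ i x, f (i + 1) (δ i x) = 0)
    (pf : ∀ i, ∀ y ∈ Q i, g i y = 0 → ∃ x ∈ P i, f i x = y)
    (pg : ∀ i, ∀ y ∈ S i, δ i y = 0 → ∃ x ∈ Q i, g i x = y)
    (pd : ∀ i, ∀ y ∈ P (i + 1), f (i + 1) y = 0 → ∃ x ∈ S i, δ i x = y)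
    (h0 : ∀ x ∈ P 0, f 0 x = 0 → x = 0) (N : ℕ) (hN : Subsingleton (P (N + 1))) :
    ∑ i ∈ Finset.range (N + 1), (-1 : ℚ) ^ i * ell A (Q i) =
      (∑ i ∈ Finset.range (N + 1), (-1 : ℚ) ^ i * ell A (P i)) +
        ∑ i ∈ Finset.range (N + 1), (-1 : ℚ) ^ i * ell A (S i) :=
  euler A (fun i => (f i).restrict (hf i)) (fun i => (g i).restrict (hg i))
    (fun i => (δ i).restrict (hδ i))
    (fun i => ker_restrict_eq_range _ _ (hgf i) (pf i)) (fun i => ker_restrict_eq_range _ _ (hdg i) (pg i))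
    (fun i => ker_restrict_eq_range _ _ (hfd i) (pd i))
    ((injective_iff_map_eq_zero _).2 fun x hx => Subtype.ext (h0 x.1 x.2 (congrArg Subtype.val hx))) N hN

end Length

variable {R : Type u} [CommRing R] [IsNoetherianRing R] {σ : Type u} [SetLike σ R] [AddSubgroupClass σ R]
variable {𝒜 : ℤ → σ} [GradedRing 𝒜] {a : HomogeneousIdeal 𝒜}

/-- `X` is killed by an ideal of the degree zero ring. -/
def Killed (J : Ideal (GrLC.deg0 𝒜)) (X : GrLC.GMod.{u} 𝒜) : Prop :=
  ∀ c ∈ J, ∀ x : X.carrier, (c : R) • x = 0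

/-- Scalars of degree zero killing the module kill its graded local cohomology. -/
theorem smul_H_eq_zero (X : GrLC.GMod.{u} 𝒜) (E : GrLC.StarInjRes 𝒜 X.gr) (r : GrLC.deg0 𝒜)
    (hr : ∀ x : X.carrier, (r : R) • x = 0) (i : ℕ) (y : E.H a i) : (r : R) • y = 0 := by
  let φ : Chain.Map E E :=
    ⟨fun n => (r : R) • LinearMap.id, fun n g x hx => by
      have h := smul_mem_add 𝒜 (E.X n).gr (show (r : R) ∈ 𝒜 0 from r.2) hx
      rwa [zero_add] at h,
     fun n => LinearMap.ext fun x => by simp⟩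
  have h0 : φ.hMap a i = 0 := φ.hMap_eq_zero a (LinearMap.ext fun x => by
    change (r : R) • E.ε x = 0
    rw [← map_smul, hr, map_zero]) i
  obtain ⟨z, rfl⟩ := Chain.toH_surjective a i y
  have h1 : φ.hMap a i (E.toH a i z) = E.toH a i ((r : R) • z) := rfl
  rw [← map_smul, ← h1, h0, LinearMap.zero_apply]

variable (hpos : ∀ n : ℤ, n < 0 → ∀ r ∈ 𝒜 n, r = 0)
variable (ha : a.toIdeal = (FGInduction.posIdeal 𝒜).toIdeal)
variable {J : Ideal (GrLC.deg0 𝒜)}
variable (hJ : ∀ (A : Type u) [AddCommGroup A] [Module (GrLC.deg0 𝒜) A] [Module.Finite (GrLC.deg0 𝒜) A],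
  (∀ c ∈ J, ∀ y : A, c • y = 0) → IsArtinian (GrLC.deg0 𝒜) A)
variable {N : ℕ}
variable (hN : ∀ (M : Type u) [AddCommGroup M] [Module R M] (i : ℕ), N < i →
  Subsingleton (LocCoh.H a.toIdeal i M))

include hpos ha in
theorem isNoetherian_Hcomp (X : GrLC.GMod.{u} 𝒜) (hX : Module.Finite R X.carrier)
    (E : GrLC.StarInjRes 𝒜 X.gr) (i : ℕ) (n : ℤ) : IsNoetherian (GrLC.deg0 𝒜) (E.Hcomp a i n) := by
  haveI := Pieces.isNoetherianRing_deg0 𝒜
  haveI := FinitenessApp.finite_Hcomp hpos ha X hX E i n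
  exact isNoetherian_of_isNoetherianRing_of_finite (GrLC.deg0 𝒜) _

include hpos ha hJ in
theorem isArtinian_Hcomp (X : GrLC.GMod.{u} 𝒜) (hX : Module.Finite R X.carrier) (hk : Killed J X)
    (E : GrLC.StarInjRes 𝒜 X.gr) (i : ℕ) (n : ℤ) : IsArtinian (GrLC.deg0 𝒜) (E.Hcomp a i n) := by
  haveI := FinitenessApp.finite_Hcomp hpos ha X hX E i n
  exact hJ _ fun c hc y => Subtype.ext (smul_H_eq_zero X E c (fun x => hk c hc x) i y.1)

include hJ in
theorem isArtinian_comp (X : GrLC.GMod.{u} 𝒜) (hX : Module.Finite R X.carrier) (hk : Killed J X) (n : ℤ) :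
    IsArtinian (GrLC.deg0 𝒜) (GrLC.comp 𝒜 X.gr n) := by
  haveI := hX
  haveI := Pieces.isNoetherian_comp 𝒜 X.gr n (M := X.carrier)
  exact hJ _ fun c hc y => Subtype.ext (hk c hc y.1)

include hN in
theorem Hcomp_eq_bot (X : GrLC.GMod.{u} 𝒜) (E : GrLC.StarInjRes 𝒜 X.gr) {i : ℕ} (hi : N < i) (n : ℤ) :
    E.Hcomp a i n = ⊥ :=
  (LES.Hcomp_eq_bot_iff a E i n).2 (CMVanish.Hgr_eq_bot_of_subsingleton E n (hN _ i hi))

/-- A chosen resolution. -/
noncomputable def res (X : GrLC.GMod.{u} 𝒜) : GrLC.StarInjRes 𝒜 X.gr :=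
  (Res.nonempty_starInjRes 𝒜 X.gr).some

variable (a N) in
/-- The Euler characteristic of the degree `n` pieces of graded local cohomology. -/
noncomputable def chi {X : GrLC.GMod.{u} 𝒜} (E : GrLC.StarInjRes 𝒜 X.gr) (n : ℤ) : ℚ :=
  ∑ i ∈ Finset.range (N + 1), (-1 : ℚ) ^ i * ell (GrLC.deg0 𝒜) (E.Hcomp a i n)

theorem chi_congr {X : GrLC.GMod.{u} 𝒜} (E E' : GrLC.StarInjRes 𝒜 X.gr) (n : ℤ) :
    chi a N E n = chi a N E' n :=
  Finset.sum_congr rfl fun i _ => congrArg _ <| ell_congr _ <| LinearEquiv.ofLinear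
    (((Chain.compareEquiv a E E' i).toLinearMap.restrictScalars (GrLC.deg0 𝒜)).restrict
      (p := E.Hcomp a i n) (q := E'.Hcomp a i n) fun x hx => Chain.compareEquiv_grHom a E E' i n x hx)
    (((Chain.compareEquiv a E E' i).symm.toLinearMap.restrictScalars (GrLC.deg0 𝒜)).restrict
      (p := E'.Hcomp a i n) (q := E.Hcomp a i n) fun x hx => Chain.compareEquiv_symm_grHom a E E' i n x hx)
    (LinearMap.ext fun x => Subtype.ext ((Chain.compareEquiv a E E' i).apply_symm_apply x.1))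
    (LinearMap.ext fun x => Subtype.ext ((Chain.compareEquiv a E E' i).symm_apply_apply x.1))

theorem chi_shift (X : GrLC.GMod.{u} 𝒜) (E : GrLC.StarInjRes 𝒜 X.gr) (c : ℤ) (n : ℤ) :
    chi a N (LES.shiftRes X.gr E c) n = chi a N E (n + c) :=
  Finset.sum_congr rfl fun i _ => congrArg _ <| ell_congr _
    { toFun := fun x => ⟨x.1, (LES.mem_shiftRes_Hgr a E c i n x.1).1 x.2⟩
      invFun := fun x => ⟨x.1, (LES.mem_shiftRes_Hgr a E c i n x.1).2 x.2⟩
      map_add' := fun _ _ => rfl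
      map_smul' := fun _ _ => rfl }

section SES

variable {X Y Z : GrLC.GMod.{u} 𝒜} {f : X.carrier →ₗ[R] Y.carrier} {g : Y.carrier →ₗ[R] Z.carrier}

include hN in
/-- The Euler characteristic is additive as soon as the pieces have finite length. -/
theorem chi_ses (h : Horseshoe.SES X.gr Y.gr Z.gr f g)
    (EX : GrLC.StarInjRes 𝒜 X.gr) (EY : GrLC.StarInjRes 𝒜 Y.gr) (EZ : GrLC.StarInjRes 𝒜 Z.gr) (n : ℤ)
    (aX : ∀ i, IsArtinian (GrLC.deg0 𝒜) (EX.Hcomp a i n)) (nX : ∀ i, IsNoetherian (GrLC.deg0 𝒜) (EX.Hcomp a i n))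
    (aY : ∀ i, IsArtinian (GrLC.deg0 𝒜) (EY.Hcomp a i n)) (nY : ∀ i, IsNoetherian (GrLC.deg0 𝒜) (EY.Hcomp a i n))
    (aZ : ∀ i, IsArtinian (GrLC.deg0 𝒜) (EZ.Hcomp a i n)) (nZ : ∀ i, IsNoetherian (GrLC.deg0 𝒜) (EZ.Hcomp a i n)) :
    chi a N EY n = chi a N EX n + chi a N EZ n := by
  obtain ⟨δ, hδ, h1, h2, h3, h4⟩ := LES.exists_les EX EY EZ a h _
    (Chain.lift_ε EX EY f h.grHom_i) _ (Chain.lift_ε EY EZ g h.grHom_π)
  let φ := Chain.lift EX EY f
  let ψ := Chain.lift EY EZ g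
  letI := fun i => Res.hgrDecomp EX a i
  letI := fun i => Res.hgrDecomp EY a i
  letI := fun i => Res.hgrDecomp EZ a i
  haveI : Subsingleton (EX.Hcomp a (N + 1) n) := by
    rw [Hcomp_eq_bot hN X EX N.lt_succ_self n]; infer_instance
  exact euler_restrict (A := GrLC.deg0 𝒜) (Ha := fun i => EX.H a i) (Hb := fun i => EY.H a i)
    (Hc := fun i => EZ.H a i)
    (fun i => (φ.hMap a i).restrictScalars (GrLC.deg0 𝒜)) (fun i => (ψ.hMap a i).restrictScalars (GrLC.deg0 𝒜))
    (fun i => (δ i).restrictScalars (GrLC.deg0 𝒜))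
    (fun i => EX.Hcomp a i n) (fun i => EY.Hcomp a i n) (fun i => EZ.Hcomp a i n)
    aX nX aY nY aZ nZ
    (fun i x hx => Chain.Map.hMap_grHom a φ i n x hx) (fun i x hx => Chain.Map.hMap_grHom a ψ i n x hx)
    (fun i x hx => hδ i n x hx)
    (fun i x => LinearMap.mem_ker.1 ((h1 i).ge ⟨x, rfl⟩)) (fun i x => LinearMap.mem_ker.1 ((h2 i).ge ⟨x, rfl⟩))
    (fun i x => LinearMap.mem_ker.1 ((h3 i).ge ⟨x, rfl⟩))
    (fun i y hy h0 => exists_hom_preimage (Chain.Map.hMap_grHom a φ i) hy ((h1 i).le (LinearMap.mem_ker.2 h0)))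
    (fun i y hy h0 => exists_hom_preimage (Chain.Map.hMap_grHom a ψ i) hy ((h2 i).le (LinearMap.mem_ker.2 h0)))
    (fun i y hy h0 => exists_hom_preimage (hδ i) hy ((h3 i).le (LinearMap.mem_ker.2 h0)))
    (fun x _ hx => h4 (hx.trans (map_zero _).symm)) N ‹_›

theorem length_ses (h : Horseshoe.SES X.gr Y.gr Z.gr f g) (n : ℤ)
    [IsArtinian (GrLC.deg0 𝒜) (GrLC.comp 𝒜 Y.gr n)] [IsNoetherian (GrLC.deg0 𝒜) (GrLC.comp 𝒜 Y.gr n)] :
    ell (GrLC.deg0 𝒜) (GrLC.comp 𝒜 Y.gr n) =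
      ell (GrLC.deg0 𝒜) (GrLC.comp 𝒜 X.gr n) + ell (GrLC.deg0 𝒜) (GrLC.comp 𝒜 Z.gr n) := by
  let f' := (f.restrictScalars (GrLC.deg0 𝒜)).restrict (p := GrLC.comp 𝒜 X.gr n) (q := GrLC.comp 𝒜 Y.gr n)
    fun x hx => h.grHom_i n x hx
  let g' := (g.restrictScalars (GrLC.deg0 𝒜)).restrict (p := GrLC.comp 𝒜 Y.gr n) (q := GrLC.comp 𝒜 Z.gr n)
    fun x hx => h.grHom_π n x hx
  have hker : LinearMap.ker g' = LinearMap.range f' :=
    ker_restrict_eq_range _ _ (fun x => LinearMap.mem_ker.1 (h.exact.ge ⟨x, rfl⟩))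
      fun y hy h0 => exists_hom_preimage h.grHom_i hy (h.exact.le (LinearMap.mem_ker.2 h0))
  have hsurj : Function.Surjective g' := fun z => by
    obtain ⟨y, hy, hyz⟩ := exists_hom_preimage h.grHom_π z.2 (h.surjective z.1)
    exact ⟨⟨y, hy⟩, Subtype.ext hyz⟩
  have h' := ker_add_range (GrLC.deg0 𝒜) g'
  have e1 : ell (GrLC.deg0 𝒜) (GrLC.comp 𝒜 X.gr n) = ell (GrLC.deg0 𝒜) (LinearMap.range f') :=
    ell_congr _ (LinearEquiv.ofInjective f' fun x y hxy => Subtype.ext (h.injective (congrArg Subtype.val hxy)))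
  have e2 : ell (GrLC.deg0 𝒜) (LinearMap.range g') = ell (GrLC.deg0 𝒜) (GrLC.comp 𝒜 Z.gr n) :=
    ell_congr _ ((LinearEquiv.ofEq _ _ (LinearMap.range_eq_top.2 hsurj)).trans Submodule.topEquiv)
  rw [hker, ← e1, e2] at h'
  exact h'.symm

end SES

variable (a N) in
/-- The defect. -/
noncomputable def delta (X : GrLC.GMod.{u} 𝒜) (n : ℤ) : ℚ :=
  ell (GrLC.deg0 𝒜) (GrLC.comp 𝒜 X.gr n) - chi a N (res X) n

theorem delta_eq {X : GrLC.GMod.{u} 𝒜} (E : GrLC.StarInjRes 𝒜 X.gr) (n : ℤ) :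
    delta a N X n = ell (GrLC.deg0 𝒜) (GrLC.comp 𝒜 X.gr n) - chi a N E n := by
  rw [delta, chi_congr (res X) E]

theorem delta_shift (X : GrLC.GMod.{u} 𝒜) (c : ℤ) (n : ℤ) :
    delta a N (shiftMod 𝒜 X.gr c) n = delta a N X (n + c) := by
  have h2 : ell (GrLC.deg0 𝒜) (GrLC.comp 𝒜 (shiftMod 𝒜 X.gr c).gr n) =
      ell (GrLC.deg0 𝒜) (GrLC.comp 𝒜 X.gr (n + c)) := ell_congr _
    { toFun := fun x => ⟨x.1, x.2⟩
      invFun := fun x => ⟨x.1, x.2⟩
      map_add' := fun _ _ => rfl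
      map_smul' := fun _ _ => rfl }
  rw [delta_eq (LES.shiftRes X.gr (res X) c), chi_shift, delta, h2]

theorem delta_torsion (X : GrLC.GMod.{u} 𝒜) (htors : GrLC.gam a.toIdeal X.carrier = ⊤) (n : ℤ) :
    delta a N X n = 0 := by
  obtain ⟨E, hE⟩ : ∃ E : GrLC.StarInjRes 𝒜 X.gr, E = res X := ⟨_, rfl⟩
  have h0 : ell (GrLC.deg0 𝒜) (GrLC.comp 𝒜 X.gr n) = ell (GrLC.deg0 𝒜) (E.Hcomp a 0 n) := by
    let f : X.carrier →ₗ[R] E.H a 0 := Chain.h0Map (E := E) a ∘ₗ
      (LinearMap.id.codRestrict (GrLC.gam a.toIdeal X.carrier) fun _ => htors.ge trivial)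
    have hf : GrLC.IsGrHom X.gr (E.Hgr a 0) f := fun g x hx => Chain.h0Map_grHom a g ⟨x, _⟩ hx
    refine ell_congr _ (LinearEquiv.ofBijective ((f.restrictScalars (GrLC.deg0 𝒜)).restrict
      (p := GrLC.comp 𝒜 X.gr n) (q := E.Hcomp a 0 n) fun x hx => hf n x hx) ⟨fun x y hxy => ?_, fun y => ?_⟩)
    · have h1 := (Chain.h0Map_bijective a).1 (congrArg Subtype.val hxy)
      exact Subtype.ext (congrArg Subtype.val h1 :)
    · letI := Res.hgrDecomp E a 0
      obtain ⟨x, hx, hfx⟩ := exists_hom_preimage hf (y := y.1) y.2 (by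
        obtain ⟨w, hw⟩ := (Chain.h0Map_bijective a).2 y.1
        exact ⟨w.1, hw⟩)
      exact ⟨⟨x, hx⟩, Subtype.ext hfx⟩
  rw [delta_eq E, chi, h0, Finset.sum_eq_single 0]
  · simp
  · intro i _ hi
    haveI := Torsion.subsingleton_H a htors E i (Nat.pos_of_ne_zero hi)
    rw [ell_eq_zero, mul_zero]
  · simp

include hpos ha hJ hN in
theorem delta_ses {X Y Z : GrLC.GMod.{u} 𝒜} {f : X.carrier →ₗ[R] Y.carrier} {g : Y.carrier →ₗ[R] Z.carrier}
    (h : Horseshoe.SES X.gr Y.gr Z.gr f g) (hX : Module.Finite R X.carrier) (hY : Module.Finite R Y.carrier)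
    (hZ : Module.Finite R Z.carrier) (kX : Killed J X) (kY : Killed J Y) (kZ : Killed J Z) (n : ℤ) :
    delta a N Y n = delta a N X n + delta a N Z n := by
  haveI := isArtinian_comp hJ Y hY kY n
  haveI : IsNoetherian (GrLC.deg0 𝒜) (GrLC.comp 𝒜 Y.gr n) :=
    haveI := hY; Pieces.isNoetherian_comp 𝒜 Y.gr n (M := Y.carrier)
  have h1 := chi_ses hN h (res X) (res Y) (res Z) n
    (fun i => isArtinian_Hcomp hpos ha hJ X hX kX _ i n) (fun i => isNoetherian_Hcomp hpos ha X hX _ i n)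
    (fun i => isArtinian_Hcomp hpos ha hJ Y hY kY _ i n) (fun i => isNoetherian_Hcomp hpos ha Y hY _ i n)
    (fun i => isArtinian_Hcomp hpos ha hJ Z hZ kZ _ i n) (fun i => isNoetherian_Hcomp hpos ha Z hZ _ i n)
  have h2 := length_ses h n
  simp only [delta]
  linarith

include hpos ha hJ hN in
theorem exists_D (X : GrLC.GMod.{u} 𝒜) (hX : Module.Finite R X.carrier) (hk : Killed J X) :
    ∃ ks : List ℕ, (∀ k ∈ ks, 0 < k) ∧ D ks (delta a N X) = 0 := by
  revert hk
  refine FGInduction.induction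
    (C := fun X => Killed J X → ∃ ks : List ℕ, (∀ k ∈ ks, 0 < k) ∧ D ks (delta a N X) = 0)
    hpos ha.ge ?_ ?_ ?_ X hX
  · exact fun X _ htors _ => ⟨[], by simp, funext fun n => delta_torsion X htors n⟩
  · intro X P hP hX h₁ h₂ hk
    have kP : Killed J (subMod 𝒜 X.gr P hP) := fun c hc x => Subtype.ext (hk c hc x.1)
    have kQ : Killed J (qMod 𝒜 X.gr P hP) := fun c hc x => by
      obtain ⟨y, rfl⟩ := P.mkQ_surjective x
      change P.mkQ ((c : R) • y) = 0
      rw [hk c hc, map_zero]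
    obtain ⟨ks, hks, hks0⟩ := h₁ kP
    obtain ⟨ls, hls, hls0⟩ := h₂ kQ
    refine ⟨ks ++ ls, fun k hk => (List.mem_append.1 hk).elim (hks k) (hls k), ?_⟩
    rw [show delta a N X = delta a N (subMod 𝒜 X.gr P hP) + delta a N (qMod 𝒜 X.gr P hP) from funext fun n =>
      delta_ses hpos ha hJ hN (Van.ses_quot X P hP) (FGInduction.finite_sub X hX P hP) hX
        (FGInduction.finite_qMod X hX P hP) kP hk kQ n]
    rw [D_append, D_add, hks0, zero_add, D_D_comm, hls0, D_zero]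
  · intro X k x hx hk hxa hreg hX hq hkill
    rcases hk.lt_or_eq with hk | rfl
    · have kQ : Killed J (qMod 𝒜 X.gr _ (SmulSeq.isHomogeneous_range_smul (ℳ := X.gr) hx)) :=
        fun c hc y => by
          obtain ⟨y, rfl⟩ := Submodule.mkQ_surjective _ y
          change Submodule.mkQ _ ((c : R) • y) = 0
          rw [hkill c hc, map_zero]
      obtain ⟨ks, hks, hks0⟩ := hq kQ
      refine ⟨k.toNat :: ks, by simp only [List.mem_cons, forall_eq_or_imp]; exact ⟨by omega, hks⟩, ?_⟩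
      simp only [D]
      convert hks0 using 2
      funext n
      have h := delta_ses hpos ha hJ hN (X := shiftMod 𝒜 X.gr (-k)) (Y := X)
        (Z := qMod 𝒜 X.gr _ (SmulSeq.isHomogeneous_range_smul (ℳ := X.gr) hx))
        (f := x • (LinearMap.id : X.carrier →ₗ[R] X.carrier)) (g := Submodule.mkQ _)
        (SmulSeq.ses_smul hx hreg (fun _ _ hy => mkQ_mem_qGr X.gr _ hy) (Submodule.mkQ_surjective _)
          (Submodule.ker_mkQ _)) hX hX (FGInduction.finite_qMod X hX _ _) hkill hkill kQ n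
      rw [delta_shift] at h
      rw [Int.toNat_of_nonneg hk.le, h, sub_eq_add_neg n k, add_sub_cancel_left]
    · have hx0 : x = 0 := by
        have := FinitenessApp.proj_zero_posIdeal (ha ▸ hxa) hpos
        rwa [proj_of_mem 𝒜 hx] at this
      haveI : Subsingleton X.carrier := subsingleton_of_forall_eq 0 fun y => hreg (by simp [hx0])
      exact ⟨[], by simp, funext fun n => delta_torsion X (eq_top_iff.2 fun y _ => by
        rw [Subsingleton.elim y 0]; exact zero_mem _) n⟩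

include hpos ha hJ hN in
/-- The defect of a module killed by `J` is polynomial: it is the Hilbert polynomial. -/
theorem delta_eq_poly (X : GrLC.GMod.{u} 𝒜) (hX : Module.Finite R X.carrier) (hk : Killed J X)
    {P : Polynomial ℚ} {n₀ : ℤ}
    (hP : ∀ n, n₀ ≤ n → P.eval (n : ℚ) = ell (GrLC.deg0 𝒜) (GrLC.comp 𝒜 X.gr n)) (n : ℤ) :
    delta a N X n = P.eval (n : ℚ) := by
  obtain ⟨ks, hks, hks0⟩ := exists_D hpos ha hJ hN X hX hk
  obtain ⟨ls, hls, hls0⟩ := exists_D_poly P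
  obtain ⟨r, hr⟩ := Finiteness.exists_V_of_le (a := a) hpos ha.ge X hX
  have hmain := eq_zero_of_D (ks ++ ls) (delta a N X + (-1 : ℚ) • fun k : ℤ => P.eval (k : ℚ))
    (fun k hk => (List.mem_append.1 hk).elim (hks k) (hls k)) ?_ ⟨max r n₀, fun k hk => ?_⟩
  · have := congrFun hmain n
    simp only [Pi.add_apply, Pi.smul_apply, smul_eq_mul, Pi.zero_apply] at this
    linarith
  · have hsmul : ∀ (js : List ℕ) (f : ℤ → ℚ), D js ((-1 : ℚ) • f) = (-1 : ℚ) • D js f := by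
      intro js
      induction js with
      | nil => intro f; rfl
      | cons j js ih =>
        intro f
        simp only [D]
        rw [← ih]
        congr 1
        funext i
        simp only [Pi.smul_apply, smul_eq_mul]
        ring
    rw [D_append, D_add, hks0, zero_add, D_D_comm, hsmul, hls0, smul_zero, D_zero]
  · have h1 : delta a N X k = P.eval (k : ℚ) := by
      rw [delta, hP k ((le_max_right r n₀).trans hk), chi, Finset.sum_eq_zero, sub_zero]
      intro i _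
      haveI : Subsingleton ((res X).Hcomp a i k) := by
        rw [Submodule.subsingleton_iff_eq_bot, LES.Hcomp_eq_bot_iff]
        exact hr i k ((le_max_left r n₀).trans hk) _
      rw [ell_eq_zero, mul_zero]
    simp [h1]

end Groth.Agent.H68.SerreRel
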